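import Groth.Agent.L21.RR.IdealTwist
import Groth.Agent.L21.RR.VeryAmple
import Groth.Agent.L21.RR.Point
import Groth.Agent.L21.RR.GeomGenusZero
import Groth.Agent.L21.RR.SkyPoint
import Groth.Agent.L21.Duality.Deg
import Groth.Agent.L21.Duality.Main
import Groth.Agent.L21.CurveGor.Main
import Groth.Agent.L21.SmoothCurveDim
import Groth.Agent.L22.Adjunction.SmoothDual
import Groth.Agent.L12.Kvb.Lambda
import Groth.Agent.L29.DCoh.TensorPerfect
import Groth.Agent.L16.CohSupport
import Groth.Agent.L16.CohGab.Closed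

/-!
# Vanishing of the first cohomology from surjective restriction to a divisor on a curve
-/

set_option autoImplicit false
set_option linter.style.haveILetI false
set_option linter.unusedSectionVars false
set_option backward.isDefEq.respectTransparency false
set_option maxHeartbeats 1200000

universe u

open CategoryTheory CategoryTheory.Limits AlgebraicGeometry TopologicalSpace Opposite

noncomputable section

namespace Groth.L16.FreeSec

open Groth.L21.RR
open Groth.L00.Tensor (tensorMap tensorIso tensorAssoc tensorComm tensorUnitLeft tensorUnitRight tensorMap_comp)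
open Groth.L16.CohLinear (hmap hmap_comp exact_hmap_delta delta)

variable {X : Scheme.{u}}

/-- The generic point avoids effective Cartier divisors. -/
theorem genericPoint_notMem_of_effCartier [IsIntegral X] {D : X.IdealSheafData}
    (hD : BlowUp.IsEffCartierIdeal D) : genericPoint X ∉ (D.support : Set X) := by
  intro hη
  obtain ⟨⟨U, hU⟩, hxU, f, hf, hD'⟩ := hD (genericPoint X)
  have h1 := (Scheme.IdealSheafData.mem_support_iff_of_mem (U := ⟨U, hU⟩) hxU).1 hη
  rw [hD', Scheme.mem_zeroLocus_iff] at h1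
  haveI : Nonempty U := ⟨⟨_, hxU⟩⟩
  have hne : f ≠ 0 := nonZeroDivisors.ne_zero hf
  have hb : ((X.basicOpen f : X.Opens) : Set X).Nonempty := by
    rw [Set.nonempty_iff_ne_empty]
    exact fun he => hne ((basicOpen_eq_bot_iff f).1 (Opens.ext he))
  obtain ⟨y, hy⟩ := hb
  exact h1 f (Ideal.mem_span_singleton_self f) (((genericPoint_spec X).specializes trivial).mem_open (X.basicOpen f).2 hy)

/-- Tensoring with a module with closed support gives closed support. -/
theorem suppClosed_tensor' (T : X.Modules) {N : X.Modules} (hN : SuppClosed N) :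
    SuppClosed (CohB1.tensorMod T N) := by
  intro x hx
  haveI : Subsingleton (Groth.L00.StalkTensor.St (Groth.L00.Tensor.pre N) x) := hN x hx
  let e := (Groth.L00.Stk.τ x T N).toLinearEquiv
  refine subsingleton_of_forall_eq 0 fun v => e.symm.injective ?_
  rw [map_zero]
  induction e.symm v using TensorProduct.induction_on with
  | zero => rfl
  | tmul a b => rw [Subsingleton.elim b 0]; exact TensorProduct.tmul_zero _ a
  | add a b ha hb => rw [ha, hb, add_zero]

theorem epi_tensorMap_left [IsLocallyNoetherian X] {T T' : X.Modules} (p : T ⟶ T') [Epi p] (N : X.Modules) :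
    Epi (tensorMap p (𝟙 N)) :=
  Groth.L16.NegPow.epi_map_tensorRight p N

theorem surjective_hmap_zero [IsNoetherian X] {M N : X.Modules} (f : M ⟶ N) [Epi f]
    (h : SuppClosed (kernel f)) : Function.Surjective (hmap f 0) := by
  intro z
  have hS : (ShortComplex.mk (kernel.ι f) f (kernel.condition f)).ShortExact :=
    ShortComplex.ShortExact.mk' (ShortComplex.exact_of_f_is_kernel _ (kernelIsKernel f)) inferInstance inferInstance
  obtain ⟨w, hw⟩ := (exact_hmap_delta hS 0 z).1 ((subsingleton_HH_of_suppClosed h 0).elim _ _)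
  exact ⟨w, hw⟩

theorem suppClosed_kernel {M N : X.Modules} (f : M ⟶ N) (h : SuppClosed M) : SuppClosed (kernel f) := by
  intro x hx
  haveI : Subsingleton ↑((Groth.L21.Mod.stalkF X x).obj M) := h x hx
  have hinj := (Groth.L21.Mod.mono_iff_stalk_injective (kernel.ι f)).1 inferInstance x
  exact hinj.subsingleton

theorem tensorBi_map_eq (E' : X.Modules) {A B : X.Modules} (φ : A ⟶ B) :
    ((DCoh.tensorBi (X := X)).obj E').map φ = tensorMap (𝟙 E') φ := by
  refine congrArg (Groth.L00.Tensor.shf X).map ?_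
  rw [CategoryTheory.Functor.map_id]
  exact (MonoidalCategory.id_tensorHom _ _).symm

/-- Tensoring with an invertible module is faithful. -/
theorem tensor_map_ne_zero {E' A B : X.Modules} (hE' : PicF.IsInvertible E') {φ : A ⟶ B} (hφ : φ ≠ 0) :
    tensorMap (𝟙 E') φ ≠ 0 := by
  intro h1
  refine hφ ((Groth.L21.Mod.eq_zero_iff_stalk _).2 fun y => ?_)
  ext v
  obtain ⟨ε, hε⟩ := exists_frame_stalk hE' y
  obtain ⟨w, rfl⟩ := (tensorStalkEquiv A hε).surjective v
  show st φ y _ = 0
  rw [← tensorStalkEquiv_natural φ hε w, tensorBi_map_eq, h1]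
  show tensorStalkEquiv B hε (st (0 : CohB1.tensorMod E' A ⟶ CohB1.tensorMod E' B) y w) = 0
  rw [show st (0 : CohB1.tensorMod E' A ⟶ CohB1.tensorMod E' B) y w = 0
    from congr($((Groth.L00.Stk.F X y).map_zero _ _) w), map_zero]

variable {k : Type u} [Field k] [IsIntegral X] [X.Over (Spec (CommRingCat.of k))]
  [IsProper (X ↘ Spec (CommRingCat.of k))] [Smooth (X ↘ Spec (CommRingCat.of k))]

include k in
/-- A non-zero coherent submodule of an invertible module on a smooth curve is invertible. -/
theorem isInvertible_of_mono (hd : topologicalKrullDim X = 1) {M L : X.Modules} (hM : PicF.IsInvertible M)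
    (hL : Coh.IsCoh L) (i : L ⟶ M) [Mono i] (hi : i ≠ 0) : PicF.IsInvertible L := by
  haveI := isNoetherian_of_proper (X := X) k
  have hinj := (Groth.L21.Mod.mono_iff_stalk_injective i).1 inferInstance
  obtain ⟨y₀, hy₀⟩ : ∃ y, Nontrivial (L.presheaf.stalk y) := by
    by_contra hall
    push Not at hall
    refine hi ((Groth.L21.Mod.eq_zero_iff_stalk _).2 fun y => ?_)
    haveI : Subsingleton ↑((Groth.L21.Mod.stalkF X y).obj L) := hall y
    ext v
    rw [Subsingleton.elim v 0, map_zero, map_zero]
  have hη : genericPoint X ∈ CohB1.support L := by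
    obtain ⟨v, hv⟩ := exists_ne (0 : L.presheaf.stalk y₀)
    obtain ⟨W, hyW, s, rfl⟩ := TopCat.Presheaf.exists_germ_eq L.presheaf v
    have hηW : genericPoint X ∈ W := ((genericPoint_spec X).specializes trivial).mem_open W.2 hyW
    show ¬ Subsingleton (L.presheaf.stalk (genericPoint X))
    refine fun hs => ?_
    have h0 : L.presheaf.germ W (genericPoint X) hηW s = 0 := hs.elim _ _
    refine hv ?_
    have h7 : M.presheaf.germ W (genericPoint X) hηW (i.app W s) = 0 := by
      rw [← st_germ i hηW s, h0, map_zero]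
    have h8 : i.app W s = 0 :=
      Groth.L21.Duality.gη_injective hM hηW (h7.trans (map_zero _).symm)
    refine hinj y₀ ?_
    show st i y₀ (L.presheaf.germ W y₀ hyW s) = st i y₀ 0
    rw [st_germ i hyW s, h8, map_zero, map_zero]
  refine Groth.L21.CurveGor.isInvertible_of_stalk_equiv hL fun y => ?_
  haveI : Nontrivial (L.presheaf.stalk y) := not_subsingleton_iff_nontrivial.1
    (((genericPoint_spec X).specializes trivial).mem_closed
      (Groth.L16.CohGab.isClosed_support hL) hη)
  haveI : (IsLocalRing.maximalIdeal (X.presheaf.stalk y)).IsPrincipal :=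
    Groth.L21.P1.isPrincipal_of_smooth (k := k) hd.le y
  haveI : IsPrincipalIdealRing (X.presheaf.stalk y) :=
    ((tfae_of_isNoetherianRing_of_isLocalRing_of_isDomain (R := X.presheaf.stalk y)).out 4 0
      (a := (IsLocalRing.maximalIdeal (X.presheaf.stalk y)).IsPrincipal)
      (b := IsPrincipalIdealRing (X.presheaf.stalk y))).1 ‹_›
  obtain ⟨e, he⟩ := exists_frame_stalk hM y
  let θ := LinearEquiv.ofBijective (LinearMap.toSpanSingleton (X.presheaf.stalk y) (M.presheaf.stalk y) e) he
  let f : L.presheaf.stalk y →ₗ[X.presheaf.stalk y] X.presheaf.stalk y :=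
    θ.symm.toLinearMap ∘ₗ ((Groth.L00.Stk.F X y).map i).hom
  have hf : Function.Injective f := θ.symm.injective.comp (hinj y)
  obtain ⟨a, ha⟩ := (IsPrincipalIdealRing.principal (LinearMap.range f)).principal
  have ha0 : a ≠ 0 := by
    intro h0
    obtain ⟨v, hv⟩ := exists_ne (0 : L.presheaf.stalk y)
    refine hv (hf ?_)
    rw [map_zero]
    have := LinearMap.mem_range_self f v
    rw [ha, h0, Submodule.span_singleton_eq_bot.2 rfl] at this
    exact (Submodule.mem_bot _).1 this
  exact ⟨(LinearEquiv.ofInjective f hf).trans ((LinearEquiv.ofEq _ _ ha).trans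
    (LinearEquiv.toSpanNonzeroSingleton _ _ a ha0).symm)⟩

include k in
/-- A smooth proper curve over an algebraically closed field is projective. -/
theorem exists_closedImmersion [IsAlgClosed k] (hd : topologicalKrullDim X = 1) :
    ∃ (n : ℕ) (r : X ⟶ CohB1.ProjSpace n k), IsClosedImmersion r ∧
      r ≫ CohB1.ProjSpace.toSpec n k = X ↘ Spec (CommRingCat.of k) := by
  obtain ⟨z, hz, hzne, hp⟩ := exists_regular_point (X := X) k hd
  obtain ⟨L₁, hL₁, hdeg₁⟩ := exists_deg_one k hd.le hz hzne (isRat_of_isClosed k hz) hp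
  have h0 := h0_eq_one_of_isAlgClosed (X := X) k
  have key : ∀ n : ℕ, ∃ L : X.Modules, PicF.IsInvertible L ∧ Curv2.deg k X L 1 = (n : ℤ) + 1 := by
    intro n
    induction n with
    | zero => exact ⟨L₁, hL₁, by simpa using hdeg₁⟩
    | succ n ih =>
      obtain ⟨L, hL, hdeg⟩ := ih
      exact ⟨CohB1.tensorMod L L₁, Groth.L18.GenLoc.isInvertible_tensor hL hL₁, by
        rw [Groth.L21.Duality.deg_tensor hd hL hL₁, hdeg, hdeg₁]; push_cast; ring⟩
  obtain ⟨L, hL, hdeg⟩ := key (2 * h k 1 (Coh.structureModule X))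
  have he : (h k 1 (Coh.structureModule X) : ℤ) + 2 ≤ Curv2.euler k X L := by
    rw [Curv2.deg, euler_eq k hd.le (Coh.structureModule X), h0] at hdeg
    push_cast at hdeg
    linarith
  obtain ⟨n, r, hr, hrs, -⟩ := exists_closedImmersion_of_euler_ge k hd hL he
  exact ⟨n, r, hr, hrs⟩

/-- Sections of an invertible quotient of a module surjecting onto its restriction to a divisor. -/
theorem h0_ge_of_surjective (hd : topologicalKrullDim X = 1) {T L : X.Modules} (hL : PicF.IsInvertible L)
    {D : X.IdealSheafData} (hηD : genericPoint X ∉ (D.support : Set X)) (p : T ⟶ L) [Epi p]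
    (hsurj : Function.Surjective (hmap (tensorMap (𝟙 T) (ClSub.toSubscheme D)) 0)) :
    h k 0 (ClSub.quotMod D) ≤ h k 0 L := by
  haveI := isNoetherian_of_proper (X := X) k
  have hsD : SuppClosed (ClSub.quotMod D) := suppClosed_quotMod_of_notMem hd.le D hηD
  haveI : Epi (tensorMap p (𝟙 (ClSub.quotMod D))) := epi_tensorMap_left p _
  have h2 : Function.Surjective (hmap (tensorMap p (𝟙 (ClSub.quotMod D))) 0) :=
    surjective_hmap_zero _ (suppClosed_kernel _ (suppClosed_tensor' T hsD))
  have h3 : Function.Surjective (hmap (tensorMap (𝟙 L) (ClSub.toSubscheme D)) 0) := by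
    intro z
    obtain ⟨t, rfl⟩ := h2 z
    obtain ⟨s, rfl⟩ := hsurj t
    refine ⟨hmap (tensorMap p (𝟙 (Coh.structureModule X))) 0 s, ?_⟩
    rw [← hmap_comp, ← hmap_comp, ← tensorMap_comp, ← tensorMap_comp]
    simp
  have hLO : Coh.IsCoh (CohB1.tensorMod L (Coh.structureModule X)) :=
    Groth.L16.ProperFinite.isCoh_of_isInvertible
      (Groth.L18.GenLoc.isInvertible_tensor hL (Groth.L18.Ample.isInvertible_structureModule X))
  haveI := finite_HH' k hLO 0
  calc h k 0 (ClSub.quotMod D)
      = h k 0 (CohB1.tensorMod L (ClSub.quotMod D)) := (h0_tensor k hL hsD).symm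
    _ ≤ h k 0 (CohB1.tensorMod L (Coh.structureModule X)) :=
        LinearMap.finrank_le_finrank_of_surjective
          (f := hk k (tensorMap (𝟙 L) (ClSub.toSubscheme D)) 0) h3
    _ = h k 0 L := h_congr k (tensorUnitRight _) 0

include k in
/-- A module with non-vanishing first cohomology maps to the differentials. -/
theorem exists_hom_omega [IsAlgClosed k] (hd : topologicalKrullDim X = 1) {F : X.Modules} (hF : Coh.IsCoh F)
    (hne : ¬ Subsingleton (Coh.HH X F 1)) :
    ∃ φ : F ⟶ Omega.sheaf (X ↘ Spec (CommRingCat.of k)), φ ≠ 0 := by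
  haveI := isNoetherian_of_proper (X := X) k
  haveI : HasExt.{u} X.Modules := hasExt_of_enoughInjectives _
  haveI : SmoothOfRelativeDimension 1 (X ↘ Spec (CommRingCat.of k)) :=
    Groth.L21.SmoothCurve.smoothOfRelativeDimension_one _ hd
  obtain ⟨r, ι, hι, hιs⟩ := exists_closedImmersion (k := k) hd
  haveI := hι
  obtain ⟨-, hrank⟩ := Groth.L22.Adjunction.finite_ext_and_finrank k 1 X ι hιs
    (Groth.L12.Kvb.isExtPow_one (Omega.sheaf (X ↘ Spec (CommRingCat.of k)))) hF (i := 0) zero_le_one
  haveI := finite_HH' k hF 1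
  haveI : Nontrivial (Coh.HH X F 1) := not_subsingleton_iff_nontrivial.1 hne
  have hpos : 0 < h k 1 F := Module.finrank_pos
  haveI : Nontrivial (Abelian.Ext F (Omega.sheaf (X ↘ Spec (CommRingCat.of k))) 0) :=
    Module.nontrivial_of_finrank_pos (R := k) (hrank ▸ hpos)
  obtain ⟨ξ, hξ⟩ := exists_ne (0 : Abelian.Ext F (Omega.sheaf (X ↘ Spec (CommRingCat.of k))) 0)
  refine ⟨Abelian.Ext.homEquiv₀ ξ, fun h0 => hξ ?_⟩
  rw [← Abelian.Ext.mk₀_homEquiv₀_apply ξ, h0, Abelian.Ext.mk₀_zero]

/-- Untwisting a map out of a twist. -/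
theorem exists_untwist {T ω J E' : X.Modules} (hE' : PicF.IsInvertible E')
    (e : CohB1.tensorMod J E' ≅ Coh.structureModule X) {φ : CohB1.tensorMod T J ⟶ ω} (hφ : φ ≠ 0) :
    ∃ ψ : T ⟶ CohB1.tensorMod E' ω, ψ ≠ 0 := by
  let c : CohB1.tensorMod E' (CohB1.tensorMod T J) ≅ T :=
    tensorIso (Iso.refl E') (tensorComm _ _) ≪≫ (tensorAssoc _ _ _).symm ≪≫
      tensorIso (tensorComm _ _ ≪≫ e) (Iso.refl T) ≪≫ tensorUnitLeft T
  refine ⟨c.inv ≫ tensorMap (𝟙 E') φ, fun h0 => tensor_map_ne_zero hE' hφ ?_⟩
  have h1 : c.hom ≫ (c.inv ≫ tensorMap (𝟙 E') φ) = 0 := by rw [h0, comp_zero]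
  rwa [← Category.assoc, c.hom_inv_id, Category.id_comp] at h1

include k in
/-- The degree of the differentials twisted down by a divisor. -/
theorem deg_twist [IsAlgClosed k] (hd : topologicalKrullDim X = 1) {E : X.IdealSheafData}
    (hηE : genericPoint X ∉ (E.support : Set X)) {E' : X.Modules} (hE' : PicF.IsInvertible E')
    (e : CohB1.tensorMod (ClSub.idealMod E) E' ≅ Coh.structureModule X) :
    Curv2.deg k X (CohB1.tensorMod E' (Omega.sheaf (X ↘ Spec (CommRingCat.of k)))) 1 =
      2 * (Curv2.genus k X : ℤ) - 2 + h k 0 (ClSub.quotMod E) := by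
  haveI := isNoetherian_of_proper (X := X) k
  have hdE : Curv2.deg k X (ClSub.idealMod E) 1 = - (h k 0 (ClSub.quotMod E) : ℤ) := by
    have he := euler_twist_ideal k hd.le (Groth.L18.Ample.isInvertible_structureModule X) E hηE
    rw [euler_congr k (tensorUnitLeft (ClSub.idealMod E))] at he
    rw [Curv2.deg, he]
    push_cast
    ring
  have hdE' := Groth.L21.Duality.deg_tensor (k := k) hd (isInvertible_idealMod k hd E hηE) hE'
  rw [deg_congr k e 1] at hdE'
  have hdO : Curv2.deg k X (Coh.structureModule X) 1 = 0 := by rw [Curv2.deg]; push_cast; ring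
  rw [Groth.L21.Duality.deg_tensor (k := k) hd hE' (Groth.L21.Duality.isInvertible_omega (k := k) hd),
    (Groth.L21.Duality.omega_invariants (k := k) hd (X := X)).2.2 (h0_eq_one_of_isAlgClosed (X := X) k)]
  omega

include k in
/-- If a locally free module surjects onto its restriction to a divisor of degree `m`, then twisting by the
inverse of a divisor of degree at most `m - 2g` kills the first cohomology. -/
theorem subsingleton_h1 [IsAlgClosed k] (hd : topologicalKrullDim X = 1)
    {T : X.Modules} (hT : FlatMod.IsFinLocFree T) {D E : X.IdealSheafData}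
    (hD : BlowUp.IsEffCartierIdeal D) (hE : BlowUp.IsEffCartierIdeal E)
    (hsurj : Function.Surjective (hmap (tensorMap (𝟙 T) (ClSub.toSubscheme D)) 0))
    (hdeg : h k 0 (ClSub.quotMod E) + 2 * Curv2.genus k X ≤ h k 0 (ClSub.quotMod D))
    (hD1 : 1 ≤ h k 0 (ClSub.quotMod D)) :
    Subsingleton (Coh.HH X (CohB1.tensorMod T (ClSub.idealMod E)) 1) := by
  haveI := isNoetherian_of_proper (X := X) k
  by_contra hns
  have hηE := genericPoint_notMem_of_effCartier hE
  have hIE : PicF.IsInvertible (ClSub.idealMod E) := isInvertible_idealMod k hd E hηE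
  obtain ⟨φ, hφ⟩ := exists_hom_omega (k := k) hd (Groth.L16.NegPow.isCoh_of_isFinLocFree
    (Groth.L29.DC.isFinLocFree_tensor hT (Groth.L16.Existence.isFinLocFree_of_isInvertible hIE))) hns
  obtain ⟨E', hE', ⟨e⟩⟩ := Groth.L08.Cube.exists_inverse hIE
  obtain ⟨ψ, hψ⟩ := exists_untwist hE' e hφ
  have hM : PicF.IsInvertible (CohB1.tensorMod E' (Omega.sheaf (X ↘ Spec (CommRingCat.of k)))) :=
    Groth.L18.GenLoc.isInvertible_tensor hE' (Groth.L21.Duality.isInvertible_omega (k := k) hd)
  haveI := Groth.L21.Extend.isQCoh_of_isInvertible hM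
  have hLc : Coh.IsCoh (Abelian.image ψ) :=
    Groth.L16.CohSupport.isCoh_image (Groth.L16.NegPow.isCoh_of_isFinLocFree hT) ψ
  have hιne : Abelian.image.ι ψ ≠ 0 := fun h0 => hψ (by rw [← Abelian.image.fac ψ, h0, comp_zero])
  have hm : h k 0 (ClSub.quotMod D) ≤ h k 0 (Abelian.image ψ) :=
    h0_ge_of_surjective hd (isInvertible_of_mono (k := k) hd hM hLc (Abelian.image.ι ψ) hιne)
      (genericPoint_notMem_of_effCartier hD) (Abelian.factorThruImage ψ) hsurj
  have hm' : h k 0 (Abelian.image ψ) ≤
      h k 0 (CohB1.tensorMod E' (Omega.sheaf (X ↘ Spec (CommRingCat.of k)))) := by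
    haveI := finite_HH' k (Groth.L16.ProperFinite.isCoh_of_isInvertible hM) 0
    exact LinearMap.finrank_le_finrank_of_injective (f := hk k (Abelian.image.ι ψ) 0)
      (injective_hmap_zero (Abelian.image.ι ψ))
  haveI : Nontrivial (Coh.HH X (CohB1.tensorMod E' (Omega.sheaf (X ↘ Spec (CommRingCat.of k)))) 0) :=
    not_subsingleton_iff_nontrivial.1 fun hs => by
      have := h_eq_zero_of_subsingleton k hs
      omega
  obtain ⟨σ, hσ⟩ := exists_hom_ne_zero (L := CohB1.tensorMod E' (Omega.sheaf (X ↘ Spec (CommRingCat.of k))))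
  have hbound := (h0_le_add k hd.le hM hσ).1
  have hdegM := deg_eq_h0_cokernel k hd.le hM hσ
  rw [deg_twist hd hηE hE' e] at hdegM
  have h0 := h0_eq_one_of_isAlgClosed (X := X) k
  omega

end Groth.L16.FreeSec
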